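import Cfsg.Agent.Lib.AltSyl.Good
import Cfsg.Agent.Lib.SymMax.Partition

/-!
Sylow 3-subgroups of the symmetric and alternating groups and their overgroups.
-/

set_option autoImplicit false
set_option linter.unusedSectionVars false

open Subgroup Equiv Equiv.Perm CfsgLib.LAE CfsgLib.NatSyl CfsgLib.AltAut CfsgLib.Comp
  CfsgLib.SymMax

namespace CfsgLib.AltSyl

variable {α : Type*} [Fintype α] [DecidableEq α]

theorem exists_pow_prime (p : ℕ) (hp : 2 ≤ p) :
    ∃ σ : Perm α, σ ^ p = 1 ∧ σ.support.card = p * (Fintype.card α / p) ∧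
      σ.cycleType = Multiset.replicate (Fintype.card α / p) p := by
  obtain ⟨σ, hσ⟩ := (exists_with_cycleType_iff α
    (m := Multiset.replicate (Fintype.card α / p) p)).2 ⟨by
      simpa using Nat.div_mul_le_self _ _, fun a ha => (Multiset.eq_of_mem_replicate ha).ge.trans' hp⟩
  refine ⟨σ, ?_, ?_, hσ⟩
  · rw [← orderOf_dvd_iff_pow_eq_one, ← lcm_cycleType, hσ, Multiset.lcm_dvd]
    exact fun b hb => (Multiset.eq_of_mem_replicate hb) ▸ dvd_rfl
  · rw [← sum_cycleType, hσ, Multiset.sum_replicate, smul_eq_mul, mul_comm]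

/-- The base group belonging to `σ`. -/
def base (σ : Perm α) : Subgroup (Perm α) where
  carrier := {g | Commute g σ ∧ ∀ x, ∃ i : ℤ, g x = (σ ^ i) x}
  one_mem' := ⟨Commute.one_left _, fun _ => ⟨0, rfl⟩⟩
  mul_mem' := by
    rintro a b ⟨ha, ha'⟩ ⟨hb, hb'⟩
    refine ⟨ha.mul_left hb, fun x => ?_⟩
    obtain ⟨i, hi⟩ := hb' x
    obtain ⟨j, hj⟩ := ha' (b x)
    exact ⟨j + i, by rw [Perm.mul_apply, hj, hi, zpow_add, Perm.mul_apply]⟩
  inv_mem' := by
    rintro a ⟨ha, ha'⟩
    refine ⟨ha.inv_left, fun x => ?_⟩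
    obtain ⟨i, hi⟩ := ha' (a⁻¹ x)
    refine ⟨-i, ?_⟩
    rw [zpow_neg, eq_comm, Perm.inv_eq_iff_eq, ← hi]
    simp

theorem base_pow {σ g : Perm α} {p : ℕ} (h : σ ^ p = 1) (hg : g ∈ base σ) : g ^ p = 1 := by
  ext x
  obtain ⟨i, hi⟩ := hg.2 x
  have : ∀ k : ℕ, (g ^ k) x = ((σ ^ i) ^ k) x := by
    intro k
    induction k with
    | zero => rfl
    | succ k ih =>
      rw [pow_succ', Perm.mul_apply, ih, ← Perm.mul_apply,
        ((hg.1.zpow_right i).pow_right k).eq, Perm.mul_apply, hi, pow_succ, Perm.mul_apply]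
  rw [this, ← zpow_natCast, ← zpow_mul, mul_comm, zpow_mul, zpow_natCast, h, one_zpow]

theorem cycleOf_mem_base (σ : Perm α) (x : α) : σ.cycleOf x ∈ base σ := by
  constructor
  · by_cases hx : σ x = x
    · rw [(cycleOf_eq_one_iff σ).2 hx]; exact Commute.one_left _
    · exact self_mem_cycle_factors_commute (cycleOf_mem_cycleFactorsFinset_iff.2 (mem_support.2 hx))
  · intro y
    rw [cycleOf_apply]
    split_ifs
    · exact ⟨1, rfl⟩
    · exact ⟨0, rfl⟩

theorem sign_of_odd {g : Perm α} {m : ℕ} (hm : Odd m) (h : g ^ m = 1) : g ∈ alternatingGroup α := by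
  have := congrArg sign h
  rw [map_pow, map_one] at this
  rcases Int.units_eq_one_or (sign g) with e | e
  · exact e
  · rw [e, hm.neg_one_pow] at this; exact absurd this (by decide)

variable {G P M : Subgroup (Perm α)}

theorem exists_cover (hG : alternatingGroup α ≤ G) (hP : IsSylowIn 3 P G) :
    ∃ U : Finset α, U.card = 3 * (Fintype.card α / 3) ∧ ∀ x ∈ U, ∃ D, Good P D ∧ x ∈ D := by
  obtain ⟨σ, h3, hc, ht⟩ := exists_pow_prime (α := α) 3 (by norm_num)
  obtain ⟨g, -, hg⟩ := hP.exists_conj_le (Q := base σ)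
    (isPGroup_iff_forall_mem.2 fun x hx => ⟨1, base_pow h3 hx⟩)
    (fun x hx => hG (sign_of_odd (by decide) (base_pow h3 hx)))
  refine ⟨σ.support.map g.toEmbedding, by simpa using hc, fun x hx => ?_⟩
  obtain ⟨y, hy, rfl⟩ := Finset.mem_map.1 hx
  have h1 := cycleOf_mem_cycleFactorsFinset_iff.2 hy
  have h2 : (σ.cycleOf y).IsThreeCycle := by
    have h4 := cycleType_le_of_mem_cycleFactorsFinset h1
    rw [(isCycle_cycleOf σ (mem_support.1 hy)).cycleType, ht, Multiset.singleton_le] at h4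
    exact card_support_eq_three_iff.1 (Multiset.eq_of_mem_replicate h4)
  refine ⟨_, good_support (cycleType_conj.trans h2)
    (hg (conj_mem_conjS.2 (cycleOf_mem_base σ y))), ?_⟩
  rw [support_conj]
  exact Finset.mem_map_of_mem _ (mem_support_cycleOf_iff.2 ⟨SameCycle.refl _ _, hy⟩)

theorem Good.card_eq (hP : IsPGroup 3 P) {D : Finset α} (h : Good P D) : D.card = 3 := by
  by_contra h3
  have h4 : 3 < D.card := lt_of_le_of_ne h.card (Ne.symm h3)
  obtain ⟨a, ha, b, hb, c, hc, d, hd, ab, ac, ad, bc, bd, cd⟩ := Finset.three_lt_card.1 h4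
  have hm : swap a b * swap c d ∈ altOn D := by
    refine mem_altOn.2 ⟨(support_mul_le _ _).trans ?_, by simp [ab, cd]⟩
    simp [support_swap ab, support_swap cd, Finset.insert_subset_iff, ha, hb, hc, hd]
  obtain ⟨k, hk⟩ := isPGroup_iff_forall_mem.1 hP _ (h.le hm)
  have h2 : (swap a b * swap c d) ^ 2 = 1 := by
    have : Commute (swap a b) (swap c d) := (disjoint_swap_swap (by simp [*])).commute
    rw [this.mul_pow, pow_two, pow_two, swap_mul_self, swap_mul_self, one_mul]
  have h1 := pow_gcd_eq_one.2 ⟨h2, hk⟩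
  rw [Nat.Coprime.gcd_eq_one (Nat.Coprime.pow_right _ (by norm_num)), pow_one] at h1
  have := Equiv.congr_fun h1 a
  simp [swap_apply_of_ne_of_ne ac ad, ab.symm] at this

/-- The hypothesis: `M` contains every proper overgroup of `P` in the alternating group. -/
structure Uq (P M : Subgroup (Perm α)) : Prop where
  syl : IsSylowIn 3 P (alternatingGroup α)
  ne : ¬ alternatingGroup α ≤ M
  le : ∀ Y, P ≤ Y → Y ≤ alternatingGroup α → Y ≠ alternatingGroup α → Y ≤ M

theorem Uq.part (h : Uq P M) {β : Type*} {f : α → β} (hf : P ≤ partStab f) {u u' v : α}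
    (h1 : u ≠ u') (h2 : f u = f u') (h3 : f u ≠ f v) : partStab f ⊓ alternatingGroup α ≤ M := by
  refine h.le _ (le_inf hf h.syl.le) inf_le_right fun e => ?_
  have huv : u ≠ v := fun e => h3 (e ▸ rfl)
  have huv' : u' ≠ v := fun e => h3 (e ▸ h2)
  have := (mem_partStab.1 ((inf_eq_right.1 e) (isThreeCycle_tc h1 huv huv').mem_alternatingGroup)
    u u').1 h2
  rw [tc_apply h1 huv] at this
  simp only [tc, Perm.mul_apply, swap_apply_left, swap_apply_of_ne_of_ne huv.symm huv'.symm] at this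
  exact h3 (h2.trans this)

theorem Uq.good (h : Uq P M) {β : Type*} {f : α → β} (hf : P ≤ partStab f) {D : Finset α}
    (hD : 3 ≤ D.card) (h1 : ∀ x ∈ D, ∀ y ∈ D, f x = f y) {x v : α} (hx : x ∈ D) (hv : f x ≠ f v) :
    Good M D := by
  obtain ⟨q, hq, -, -, hqx, -, -⟩ := exists_two_ne hD x
  refine ⟨hD, le_trans (le_inf (fun g hg => ?_) (altOn_le_alt D))
    (h.part hf hqx.symm (h1 x hx q hq) hv)⟩
  refine mem_partStab_of_comp id Function.injective_id fun y => ?_
  by_cases hy : g y = y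
  · rw [hy]; rfl
  · have := mem_support.2 hy
    exact h1 _ ((mem_altOn.1 hg).1 (apply_mem_support.2 this)) _ ((mem_altOn.1 hg).1 this)

theorem Uq.good_inv (h : Uq P M) {D : Finset α} (hD : 3 ≤ D.card)
    (hi : ∀ g ∈ P, ∀ x, g x ∈ D ↔ x ∈ D) (hne : D ≠ Finset.univ) : Good M D := by
  obtain ⟨x, hx⟩ : D.Nonempty := by rw [← Finset.card_pos]; omega
  obtain ⟨v, hv⟩ : ∃ v, v ∉ D := by
    by_contra hc
    exact hne (Finset.eq_univ_of_forall (by simpa using hc))
  exact h.good (f := fun x => x ∈ D) (fun g hg =>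
    mem_partStab_of_comp id Function.injective_id fun y => propext (hi g hg y)) hD
    (fun x hx y hy => by simp [hx, hy]) hx (v := v) (by simp [hx, hv])

theorem Uq.not_univ (h : Uq P M) : ¬ Good M Finset.univ := fun e => h.ne (altOn_univ.ge.trans e.le)

/-- The orbit as a finite set. -/
noncomputable def orb (P : Subgroup (Perm α)) (x : α) : Finset α :=
  (MulAction.orbit P x).toFinite.toFinset

theorem mem_orb {x y : α} : y ∈ orb P x ↔ ∃ g ∈ P, g x = y := by
  simp [orb, MulAction.mem_orbit_iff, Subgroup.smul_def]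

theorem self_mem_orb (x : α) : x ∈ orb P x := mem_orb.2 ⟨1, P.one_mem, rfl⟩

theorem orb_inv (x : α) : ∀ g ∈ P, ∀ y, g y ∈ orb P x ↔ y ∈ orb P x := by
  intro g hg y
  simp only [mem_orb]
  constructor
  · rintro ⟨k, hk, e⟩
    exact ⟨g⁻¹ * k, P.mul_mem (P.inv_mem hg) hk, by simp [e]⟩
  · rintro ⟨k, hk, e⟩
    exact ⟨g * k, P.mul_mem hg hk, by simp [e]⟩

theorem orb_subset {D : Finset α} (hi : ∀ g ∈ P, ∀ x, g x ∈ D ↔ x ∈ D) {x : α} (hx : x ∈ D) :
    orb P x ⊆ D := by
  intro y hy
  obtain ⟨g, hg, rfl⟩ := mem_orb.1 hy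
  exact (hi g hg x).2 hx

theorem card_orb_eq (x : α) : (orb P x).card = (MulAction.stabilizer P x).index := by
  rw [MulAction.index_stabilizer, orb, Set.ncard_eq_toFinset_card]

theorem card_orb {p : ℕ} [Fact p.Prime] (hP : IsPGroup p P) (x : α) :
    ∃ k, (orb P x).card = p ^ k := by
  rw [card_orb_eq]; exact hP.index _

theorem le_card_orb {p : ℕ} [Fact p.Prime] (hP : IsPGroup p P) {x : α} {g : Perm α} (hg : g ∈ P)
    (h : g x ≠ x) : p ≤ (orb P x).card := by
  obtain ⟨k, hk⟩ := card_orb hP x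
  have : 1 < (orb P x).card :=
    Finset.one_lt_card.2 ⟨_, self_mem_orb x, _, mem_orb.2 ⟨g, hg, rfl⟩, h.symm⟩
  rw [hk] at this ⊢
  exact Nat.le_self_pow (fun e => by simp [e] at this) p

/-- The equivalence relation defined by the good sets. -/
def gs (H : Subgroup (Perm α)) : Setoid α where
  r x y := x = y ∨ ∃ D, Good H D ∧ x ∈ D ∧ y ∈ D
  iseqv :=
    { refl := fun _ => Or.inl rfl
      symm := by
        rintro x y (e | ⟨D, hD, h1, h2⟩)
        · exact Or.inl e.symm
        · exact Or.inr ⟨D, hD, h2, h1⟩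
      trans := by
        rintro x y z (rfl | ⟨D, hD, h1, h2⟩) h
        · exact h
        · rcases h with rfl | ⟨D', hD', h3, h4⟩
          · exact Or.inr ⟨D, hD, h1, h2⟩
          · exact Or.inr ⟨_, hD.union hD' h2 h3, Finset.mem_union_left _ h1,
              Finset.mem_union_right _ h4⟩ }

theorem le_partStab_gs : P ≤ partStab (Quotient.mk (gs P)) := by
  have k : ∀ g ∈ P, ∀ x y, (gs P).r x y → (gs P).r (g x) (g y) := by
    rintro g hg x y (rfl | ⟨D, hD, h1, h2⟩)
    · exact Or.inl rfl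
    · exact Or.inr ⟨_, hD.conj hg, Finset.mem_map_of_mem _ h1, Finset.mem_map_of_mem _ h2⟩
  intro g hg
  rw [mem_partStab]
  intro x y
  simp only [Quotient.eq]
  exact ⟨k g hg x y, fun h => by simpa using k _ (P.inv_mem hg) _ _ h⟩

theorem Uq.card_le (h : Uq P M) (cov : ∀ x, ∃ D, Good P D ∧ x ∈ D) (h4 : 4 ≤ Fintype.card α)
    {s : Finset α} (hs : Good M s) : s.card = 3 := by
  have hPM : P ≤ M := h.le P le_rfl h.syl.le fun e => by
    have := Good.card_eq h.syl.isPGroup (D := Finset.univ)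
      ⟨by simp; omega, by rw [e, altOn_univ]⟩
    simp at this; omega
  by_contra h3
  obtain ⟨D, hsD, hD, hmax⟩ := hs.exists_max
  have hc : 3 < D.card := (lt_of_le_of_ne hs.card (Ne.symm h3)).trans_le (Finset.card_le_card hsD)
  set f := Quotient.mk (gs P) with hf
  have fib : ∀ x T, Good P T → x ∈ T → ∀ y, f y = f x ↔ y ∈ T := by
    intro x T hT hx y
    rw [hf, Quotient.eq]
    refine ⟨?_, fun hy => Or.inr ⟨T, hT, hy, hx⟩⟩
    rintro (rfl | ⟨T', hT', h1, h2⟩)
    · exact hx
    · have e := Finset.eq_of_subset_of_card_le (Finset.subset_union_left (s₁ := T) (s₂ := T'))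
        (by rw [(hT.union hT' hx h2).card_eq h.syl.isPGroup, hT.card_eq h.syl.isPGroup])
      exact e ▸ Finset.mem_union_right _ h1
  have cl : ∀ z ∈ D, ∀ w, f w = f z → w ∈ D := by
    intro z hz w e
    obtain ⟨T, hT, hzT⟩ := cov z
    exact hmax T (hT.mono hPM) z hzT hz ((fib z T hT hzT w).1 e)
  have h3f : ∀ i, Nat.card {x // f x = i} = 3 := by
    intro i
    obtain ⟨x, rfl⟩ := Quotient.exists_rep i
    obtain ⟨T, hT, hx⟩ := cov x
    rw [← hT.card_eq h.syl.isPGroup, ← Nat.card_eq_finsetCard]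
    exact Nat.card_congr (Equiv.subtypeEquivRight (fib x T hT hx))
  obtain ⟨y, hy⟩ : ∃ y, y ∉ D := by
    by_contra hc
    exact h.not_univ (Finset.eq_univ_of_forall (by simpa using hc) ▸ hD)
  obtain ⟨x, hx⟩ : D.Nonempty := by rw [← Finset.card_pos]; omega
  obtain ⟨T, hT, hxT⟩ := cov x
  obtain ⟨x', hx', hx'T⟩ : ∃ x' ∈ D, x' ∉ T := by
    by_contra hc'
    have := Finset.card_le_card (show D ⊆ T by simpa [Finset.subset_iff] using hc')
    rw [hT.card_eq h.syl.isPGroup] at this
    omega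
  obtain ⟨a, ha, -, -, hax, -, -⟩ := exists_two_ne hT.card x
  have hfa : f a = f x := (fib x T hT hxT a).2 ha
  have hxy : f x ≠ f y := fun e => hy (cl x hx y e.symm)
  classical
  obtain ⟨g, hg, hgA⟩ : ∃ g : Perm α, (∀ z, f (g z) = swap (f x) (f y) (f z)) ∧
      g ∈ alternatingGroup α := by
    obtain ⟨g, hg⟩ := exists_lift h3f (swap (f x) (f y))
    rcases Int.units_eq_one_or (sign g) with e | e
    · exact ⟨g, hg, e⟩
    · refine ⟨g * swap a x, fun z => by rw [Perm.mul_apply, hg, apply_swap_eq hfa], ?_⟩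
      simp [e, hax]
  have hgM : g ∈ M := h.part le_partStab_gs hax.symm hfa.symm hxy
    ⟨mem_partStab_of_comp _ (swap _ _).injective hg, hgA⟩
  have h1 : g x' ∈ D := cl x' hx' _ (by
    rw [hg, swap_apply_of_ne_of_ne (fun e => hx'T ((fib x T hT hxT x').1 e))
      (fun e => hy (cl x' hx' y e.symm))])
  have h2 := hmax _ (hD.conj hgM) _ (Finset.mem_map_of_mem _ hx') h1 (Finset.mem_map_of_mem _ hx)
  exact hy (cl _ h2 y (by rw [Equiv.coe_toEmbedding, hg, swap_apply_left]))

theorem Uq.nine (h : Uq P M) {x : α} (ht : orb P x = Finset.univ) {k : ℕ} (hk : 3 ≤ k)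
    (hn : Fintype.card α = 3 ^ k) : ∃ D, Good M D ∧ D.card = 9 := by
  have hP := h.syl.isPGroup
  set S := MulAction.stabilizer P x with hS
  have hi : S.index = 3 ^ k := by rw [← card_orb_eq, ht, Finset.card_univ, hn]
  obtain ⟨j, hj⟩ := (hP.to_subgroup S).exists_card_eq
  have hc : Nat.card P = 3 ^ (j + k) := by rw [← S.card_mul_index, hi, hj, pow_add]
  obtain ⟨R1, hR1, h1⟩ := Sylow.exists_subgroup_card_pow_succ
    (by rw [hc]; exact pow_dvd_pow 3 (by omega)) hj
  obtain ⟨R, hR, h2⟩ := Sylow.exists_subgroup_card_pow_succ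
    (by rw [hc]; exact pow_dvd_pow 3 (by omega)) hR1
  have hSR : S ≤ R := h1.trans h2
  let B : Finset α := (MulAction.orbit R x).toFinite.toFinset
  have hB : ∀ g : P, (g : Perm α) x ∈ B ↔ g ∈ R := by
    intro g
    simp only [B, Set.Finite.mem_toFinset, MulAction.mem_orbit_iff]
    constructor
    · rintro ⟨r, hr⟩
      have : g⁻¹ * r ∈ S := by
        rw [hS, MulAction.mem_stabilizer_iff, mul_smul]
        exact inv_smul_eq_iff.2 hr
      exact (R.inv_mem_iff.1 ((R.mul_mem_cancel_right r.2).1 (hSR this)))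
    · exact fun hg => ⟨⟨g, hg⟩, rfl⟩
  have hc9 : B.card = 9 := by
    have e : MulAction.stabilizer R x = S.subgroupOf R := by ext; rfl
    have := (S.subgroupOf R).card_mul_index
    rw [Nat.card_congr (subgroupOfEquivOfLe hSR).toEquiv, hj, hR, ← e,
      MulAction.index_stabilizer, Set.ncard_eq_toFinset_card, pow_succ, pow_succ, mul_assoc] at this
    exact Nat.eq_of_mul_eq_mul_left (by positivity) this
  obtain ⟨v, hv⟩ : ∃ v, v ∉ B := by
    by_contra hc
    have := Finset.eq_univ_of_forall (s := B) (by simpa using hc)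
    rw [this, Finset.card_univ, hn] at hc9
    have := Nat.pow_le_pow_right (n := 3) (by norm_num) hk
    omega
  have hx : x ∈ B := (hB 1).2 R.one_mem
  refine ⟨B, h.good (f := fun y => {g : P | (g : Perm α) y ∈ B}) (fun g hg => ?_) (by omega)
    (fun y hy z hz => ?_) hx (v := v) (fun e => ?_), hc9⟩
  · refine mem_partStab_of_comp (fun s => (· * ⟨g, hg⟩) ⁻¹' s)
      (Set.preimage_injective.2 (mul_right_surjective _)) fun y => rfl
  · have k : ∀ y ∈ B, {g : P | (g : Perm α) y ∈ B} = R := by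
      intro y hy
      obtain ⟨r, rfl⟩ := (Set.Finite.mem_toFinset _).1 hy
      ext g
      exact (hB (g * r)).trans (R.mul_mem_cancel_right r.2)
    rw [k y hy, k z hz]
  · exact hv (by simpa [hx] using Set.ext_iff.1 e 1)

theorem Uq.main (h : Uq P M) (h5 : 5 ≤ Fintype.card α) : Fintype.card α = 6 ∨ Fintype.card α = 9 ∨
    ∃ a, 2 ≤ a ∧ Fintype.card α = 3 ^ a + 1 := by
  have hP := h.syl.isPGroup
  obtain ⟨U, hU, cov⟩ := exists_cover le_rfl h.syl
  by_cases hfix : ∃ x, ∀ g ∈ P, g x = x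
  · obtain ⟨x, hx⟩ := hfix
    have hx' : ∀ g ∈ P, ∀ y, g y = x ↔ y = x := fun g hg y => by
      conv_lhs => rw [← hx g hg]
      exact g.injective.eq_iff
    obtain ⟨u, hu⟩ : U.Nonempty := by rw [← Finset.card_pos]; omega
    obtain ⟨T, hT, -⟩ := cov u hu
    obtain ⟨c, hcT, hc⟩ := hT.exists_three
    obtain ⟨y, hy⟩ : ∃ y, c y ≠ y := by
      by_contra hh
      exact hc.ne_one (by ext y; simpa using not_exists.1 hh y)
    have h3 := le_card_orb hP (hT.le hcT) hy
    have hyx : y ≠ x := fun e => hy (e ▸ hx c (hT.le hcT))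
    have h1 : Good M {x}ᶜ := h.good_inv (by simp [Finset.card_compl]; omega)
      (fun g hg z => by simp [hx' g hg]) (fun e => by simpa using Finset.ext_iff.1 e x)
    by_cases he : insert x (orb P y) = Finset.univ
    · obtain ⟨k, hk⟩ := card_orb hP y
      have hxo : x ∉ orb P y := fun e => by
        obtain ⟨g, hg, e⟩ := mem_orb.1 e
        exact hyx ((hx' g hg y).1 e)
      have := congrArg Finset.card he
      rw [Finset.card_insert_of_notMem hxo, hk, Finset.card_univ] at this
      refine Or.inr (Or.inr ⟨k, ?_, this.symm⟩)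
      by_contra hk2
      have : k = 0 ∨ k = 1 := by omega
      rcases this with rfl | rfl <;> omega
    · have h2 : Good M (insert x (orb P y)) := h.good_inv
        (h3.trans (Finset.card_le_card (Finset.subset_insert _ _)))
        (fun g hg z => by simp [hx' g hg, orb_inv y g hg]) he
      have := h1.union h2 (x := y) (by simpa using hyx) (by simp [self_mem_orb])
      rw [Finset.eq_univ_of_forall (s := _ ∪ _) (fun z => by
        by_cases hz : z = x <;> simp [hz])] at this
      exact absurd this h.not_univ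
  · have h3 : ∀ x, 3 ≤ (orb P x).card := fun x => by
      obtain ⟨g, hg⟩ := not_forall.1 (not_exists.1 hfix x)
      exact le_card_orb hP (Classical.not_imp.1 hg).1 (Classical.not_imp.1 hg).2
    have hd : 3 ∣ Fintype.card α := by
      by_contra hd
      obtain ⟨x, hx⟩ := hP.nonempty_fixed_point_of_prime_not_dvd_card α (by simpa using hd)
      exact hfix ⟨x, fun g hg => hx ⟨g, hg⟩⟩
    obtain rfl : U = Finset.univ := Finset.eq_univ_of_card _ (by omega)
    have hc := fun s => h.card_le (fun x => cov x (Finset.mem_univ x)) (by omega) (s := s)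
    obtain ⟨x⟩ : Nonempty α := Fintype.card_pos_iff.1 (by omega)
    by_cases he : orb P x = Finset.univ
    · obtain ⟨k, hk⟩ := card_orb hP x
      rw [he, Finset.card_univ] at hk
      by_cases hk3 : 3 ≤ k
      · obtain ⟨D, hD, h9⟩ := h.nine he hk3 hk
        have := hc D hD
        omega
      · have : k = 0 ∨ k = 1 ∨ k = 2 := by omega
        rcases this with rfl | rfl | rfl <;> omega
    · left
      have h1 := hc _ (h.good_inv (h3 x) (orb_inv x) he)
      have hi : ∀ g ∈ P, ∀ y, g y ∈ (orb P x)ᶜ ↔ y ∈ (orb P x)ᶜ := fun g hg y => by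
        simp [orb_inv x g hg]
      obtain ⟨y, hy⟩ : ∃ y, y ∈ (orb P x)ᶜ := by
        by_contra hh
        exact he (Finset.eq_univ_of_forall (by simpa using hh))
      have h2 := hc _ (h.good_inv ((h3 y).trans (Finset.card_le_card (orb_subset hi hy))) hi
        (fun e => by simpa [self_mem_orb] using Finset.ext_iff.1 e x))
      rw [Finset.card_compl] at h2
      omega

end CfsgLib.AltSyl
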