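import Cfsg.Agent.Lib.AltSyl.Three

/-!
Overgroups of a Sylow 2-subgroup of an alternating group.
-/

set_option autoImplicit false
set_option linter.unusedSectionVars false

open Subgroup Equiv Equiv.Perm CfsgLib.LAE CfsgLib.NatSyl CfsgLib.AltAut CfsgLib.Comp

namespace CfsgLib.AltSyl

variable {α : Type*} [Fintype α] [DecidableEq α]

theorem conj_mem_base {σ g : Perm α} (h : Perm α) (hg : g ∈ base σ) :
    h * g * h⁻¹ ∈ base (h * σ * h⁻¹) := by
  refine ⟨?_, fun x => ?_⟩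
  · have := hg.1.eq
    change h * g * h⁻¹ * (h * σ * h⁻¹) = h * σ * h⁻¹ * (h * g * h⁻¹)
    calc _ = h * (g * σ) * h⁻¹ := by group
      _ = h * (σ * g) * h⁻¹ := by rw [this]
      _ = _ := by group
  · obtain ⟨i, hi⟩ := hg.2 (h⁻¹ x)
    exact ⟨i, by rw [conj_zpow, Perm.mul_apply, Perm.mul_apply, hi]; rfl⟩

theorem mem_base_conj {σ g : Perm α} (h : Perm α) (hg : g ∈ base (h * σ * h⁻¹)) :
    h⁻¹ * g * h ∈ base σ := by
  simpa [mul_assoc] using conj_mem_base h⁻¹ hg

theorem base_comm {σ a b : Perm α} (ha : a ∈ base σ) (hb : b ∈ base σ) : a * b = b * a := by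
  ext x
  obtain ⟨i, hi⟩ := ha.2 x
  obtain ⟨j, hj⟩ := hb.2 x
  rw [Perm.mul_apply, Perm.mul_apply, hj, ← Perm.mul_apply, (ha.1.zpow_right j).eq, Perm.mul_apply,
    hi, ← Perm.mul_apply b, (hb.1.zpow_right i).eq, Perm.mul_apply, hj, ← Perm.mul_apply,
    ← Perm.mul_apply, ← zpow_add, ← zpow_add, add_comm]

theorem self_mem_base (σ : Perm α) : σ ∈ base σ := ⟨Commute.refl _, fun _ => ⟨1, rfl⟩⟩

/-- An involution with at most one fixed point. -/
structure Tau (τ : Perm α) : Prop where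
  sq : τ * τ = 1
  card : τ.support.card = 2 * (Fintype.card α / 2)

/-- The transposition of `τ` through `x`. -/
def tt (τ : Perm α) (x : α) : Perm α := swap x (τ x)

variable {τ τ' : Perm α} {H E : Subgroup (Perm α)}

theorem Tau.app (h : Tau τ) (x : α) : τ (τ x) = x := Equiv.congr_fun h.sq x

theorem Tau.conj (h : Tau τ) (g : Perm α) : Tau (g * τ * g⁻¹) :=
  ⟨by rw [conj_mul, h.sq]; simp, by rw [support_conj, Finset.card_map, h.card]⟩

theorem Tau.fix_eq (h : Tau τ) {x y : α} (hx : τ x = x) (hy : τ y = y) : x = y := by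
  have : τ.supportᶜ.card ≤ 1 := by rw [Finset.card_compl, h.card]; omega
  exact Finset.card_le_one.1 this x (by simpa using hx) y (by simpa using hy)

theorem Tau.mem_base (h : Tau τ) {g : Perm α} :
    g ∈ base τ ↔ ∀ x, g x = x ∨ g x = τ x := by
  constructor
  · intro hg x
    obtain ⟨i, hi⟩ := hg.2 x
    rw [hi, zpow_eq_zpow_emod' i (n := 2) (by rw [pow_two, h.sq])]
    rcases Int.emod_two_eq_zero_or_one i with e | e <;> simp [e]
  · intro hg
    refine ⟨?_, fun x => (hg x).elim (fun e => ⟨0, e⟩) (fun e => ⟨1, e⟩)⟩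
    ext x
    simp only [Perm.mul_apply]
    rcases hg x with e | e <;> rcases hg (τ x) with e' | e'
    · rw [e, e']
    · have k : τ x = x := g.injective (by rw [e', h.app, e])
      rw [k, e, k]
    · have k : x = τ x := g.injective (by rw [e', e])
      rw [e', e, h.app, ← k]
    · rw [e, e']

theorem Tau.tt_mem (h : Tau τ) (x : α) : tt τ x ∈ base τ := by
  rw [h.mem_base]
  intro y
  rw [tt, swap_apply_def]
  split_ifs with h1 h2
  · rw [h1]; exact Or.inr rfl
  · rw [h2, h.app]; exact Or.inr rfl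
  · exact Or.inl rfl

theorem tt_mul_mem {x y : α} (hx : τ x ≠ x) (hy : τ y ≠ y) :
    tt τ x * tt τ y ∈ alternatingGroup α := by
  simp [tt, hx.symm, hy.symm]

theorem conj_tt (g τ : Perm α) (x : α) : g * tt τ x * g⁻¹ = tt (g * τ * g⁻¹) (g x) := by
  rw [tt, tt, ← swap_apply_apply]; simp

theorem Tau.tt_tt_apply (h : Tau τ) {x y : α} (h1 : y ≠ x) (h2 : y ≠ τ x) :
    (tt τ x * tt τ y) x = τ x ∧ (tt τ x * tt τ y) y = τ y := by
  have h3 : x ≠ τ y := fun e => h2 (by rw [e, h.app])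
  constructor
  · rw [Perm.mul_apply, tt, tt, swap_apply_of_ne_of_ne h1.symm h3, swap_apply_left]
  · rw [Perm.mul_apply, tt, tt, swap_apply_left,
      swap_apply_of_ne_of_ne h3.symm (τ.injective.ne h1)]

theorem support_tt_tt (τ : Perm α) (x y : α) :
    (tt τ x * tt τ y).support ⊆ {x, τ x, y, τ y} := by
  intro u hu
  by_contra hc
  simp only [Finset.mem_insert, Finset.mem_singleton, not_or] at hc
  apply mem_support.1 hu
  rw [Perm.mul_apply, tt, tt, swap_apply_of_ne_of_ne hc.2.2.1 hc.2.2.2,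
    swap_apply_of_ne_of_ne hc.1 hc.2.1]

theorem Tau.support_eq (h : Tau τ) {x y : α} (hx : τ x ≠ x) (hy : τ y ≠ y) (h1 : y ≠ x)
    (h2 : y ≠ τ x) : (tt τ x * tt τ y).support = {x, τ x, y, τ y} := by
  refine (support_tt_tt τ x y).antisymm ?_
  obtain ⟨a, b⟩ := h.tt_tt_apply h1 h2
  have ha : x ∈ (tt τ x * tt τ y).support := mem_support.2 (a ▸ hx)
  have hb : y ∈ (tt τ x * tt τ y).support := mem_support.2 (b ▸ hy)
  have ha' := a ▸ apply_mem_support.2 ha
  have hb' := b ▸ apply_mem_support.2 hb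
  simp only [Finset.insert_subset_iff, Finset.singleton_subset_iff]
  exact ⟨ha, ha', hb, hb'⟩

theorem Tau.card_four (h : Tau τ) {x y : α} (hx : τ x ≠ x) (hy : τ y ≠ y) (h1 : y ≠ x)
    (h2 : y ≠ τ x) : ({x, τ x, y, τ y} : Finset α).card = 4 := by
  have h3 : x ≠ τ y := fun e => h2 (by rw [e, h.app])
  exact Finset.card_eq_four.2 ⟨x, τ x, y, τ y, hx.symm, h1.symm, h3, h2.symm,
    τ.injective.ne h1.symm, hy.symm, rfl⟩

theorem Tau.exists_moved (h : Tau τ) {s : Finset α} (hs : s.card < 2 * (Fintype.card α / 2)) :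
    ∃ x, τ x ≠ x ∧ x ∉ s := by
  rw [← h.card] at hs
  obtain ⟨x, h1, h2⟩ := Finset.exists_mem_notMem_of_card_lt_card hs
  exact ⟨x, mem_support.1 h1, h2⟩

theorem Tau.exists_other (h : Tau τ) (h4 : 4 ≤ Fintype.card α) (x : α) :
    ∃ y, τ y ≠ y ∧ y ≠ x ∧ y ≠ τ x := by
  obtain ⟨y, h1, h2⟩ := h.exists_moved (s := {x, τ x}) (Finset.card_le_two.trans_lt (by omega))
  exact ⟨y, h1, by simpa using h2⟩

theorem Tau.exists_two (h : Tau τ) (h6 : 6 ≤ Fintype.card α) (x : α) :
    ∃ y z, τ y ≠ y ∧ y ≠ x ∧ y ≠ τ x ∧ τ z ≠ z ∧ z ≠ x ∧ z ≠ τ x ∧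
      ∀ w, w ∈ ({x, τ x, y, τ y} : Finset α) → w ∈ ({x, τ x, z, τ z} : Finset α) →
        w = x ∨ w = τ x := by
  obtain ⟨y, h1, h2, h3⟩ := h.exists_other (by omega) x
  obtain ⟨z, h4, h5⟩ := h.exists_moved (s := {x, τ x, y, τ y})
    (Finset.card_le_four.trans_lt (by omega))
  simp only [Finset.mem_insert, Finset.mem_singleton, not_or] at h5
  refine ⟨y, z, h1, h2, h3, h4, h5.1, h5.2.1, fun w a b => ?_⟩
  simp only [Finset.mem_insert, Finset.mem_singleton] at a b
  rcases a with a | a | rfl | rfl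
  · exact Or.inl a
  · exact Or.inr a
  · rcases b with b | b | b | b
    · exact Or.inl b
    · exact Or.inr b
    · exact absurd b.symm h5.2.2.1
    · exact absurd (by rw [b, h.app]) h5.2.2.2
  · rcases b with b | b | b | b
    · exact Or.inl b
    · exact Or.inr b
    · exact absurd b.symm h5.2.2.2
    · exact absurd (τ.injective b).symm h5.2.2.1

theorem exists_tau {G Q : Subgroup (Perm α)} (hQ : IsSylowIn 2 Q G) (hG : ⊤ ≤ normalizer (G : Set (Perm α))) :
    ∃ τ : Perm α, Tau τ ∧ base τ ⊓ G ≤ Q := by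
  obtain ⟨σ, h2, hc, -⟩ := exists_pow_prime (α := α) 2 le_rfl
  obtain ⟨g, -, hg⟩ := hQ.exists_conj_le (Q := base σ ⊓ G)
    (isPGroup_iff_forall_mem.2 fun x hx => ⟨1, base_pow h2 hx.1⟩) inf_le_right
  refine ⟨_, (Tau.mk (by rwa [← pow_two]) hc).conj g, fun x hx => hg (mem_conjS.2
    ⟨mem_base_conj g hx.1, conj_inv_mem_of_mem_normalizer (hG (mem_top g)) hx.2⟩)⟩

/-- The even part of the base group lies in `H`. -/
structure TauIn (H : Subgroup (Perm α)) (τ : Perm α) : Prop extends Tau τ where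
  le : base τ ⊓ alternatingGroup α ≤ H

theorem TauIn.conj (h : TauIn H τ) {g : Perm α} (hg : g ∈ H) : TauIn H (g * τ * g⁻¹) where
  toTau := h.toTau.conj g
  le := fun x hx => by
    have := h.le ⟨mem_base_conj g hx.1, (alternatingGroup.normal).conj_mem' _ hx.2 g⟩
    simpa [mul_assoc] using H.mul_mem (H.mul_mem hg this) (H.inv_mem hg)

theorem TauIn.tt_mem (h : TauIn H τ) {x y : α} (hx : τ x ≠ x) (hy : τ y ≠ y) :
    tt τ x * tt τ y ∈ H :=
  h.le ⟨mul_mem (h.toTau.tt_mem x) (h.toTau.tt_mem y), tt_mul_mem hx hy⟩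

theorem QS.not_tt (q : QS H E) (h : TauIn H τ) {x y : α} (hx : τ x ≠ x) (hy : τ y ≠ y)
    (h1 : y ≠ x) (h2 : y ≠ τ x) : tt τ x * tt τ y ∉ centralizer (E : Set (Perm α)) :=
  q.small (h.tt_mem hx hy) (fun e => hx (by rw [← (h.tt_tt_apply h1 h2).1, e]; rfl))
    ((Finset.card_le_card (support_tt_tt τ x y)).trans Finset.card_le_four)

theorem QS.not_cent (q : QS H E) (h : TauIn H τ) (h4 : 4 ≤ Fintype.card α) :
    ¬ ∀ e ∈ E, e * τ * e⁻¹ = τ := by
  intro hc
  obtain ⟨x, hx, -⟩ := h.exists_moved (s := ∅) (by simp; omega)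
  obtain ⟨y, hy, h1, h2⟩ := h.exists_other h4 x
  rcases q.dich (K := base τ ⊓ H) inf_le_right (le_normalizer_iff.2 fun e he k hk =>
    ⟨hc e he ▸ conj_mem_base e hk.1,
      H.mul_mem (H.mul_mem (q.le he) hk.2) (H.inv_mem (q.le he))⟩) with e | e
  · exact qs_sub_not_le_centralizer q.qs fun a ha b hb => base_comm (e hb).1 (e ha).1
  · exact q.not_tt h hx hy h1 h2 (e ⟨mul_mem (h.toTau.tt_mem x) (h.toTau.tt_mem y), h.tt_mem hx hy⟩)

section NoThree

variable (n3 : ∀ c ∈ H, ¬ c.IsThreeCycle) (h8 : 8 ≤ Fintype.card α)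
include n3 h8

theorem TauIn.dich (h : TauIn H τ) {z : Perm α} (hz : z ∈ H) (h4 : z.support.card = 4) :
    z.support ⊆ τ.support ∧ ((∀ a, a ∈ z.support ↔ τ a ∈ z.support) ∨
      (τ.support.card = 8 ∧ ∀ a ∈ τ.support, a ∈ z.support ↔ τ a ∉ z.support)) := by
  set B := z.support with hB
  by_cases hc : ∀ b ∈ B, τ b ∈ B
  · have hi : ∀ a, a ∈ B ↔ τ a ∈ B := fun a => ⟨hc a, fun e => h.app a ▸ hc _ e⟩
    refine ⟨fun x hx => ?_, Or.inl hi⟩
    by_contra hxf
    rw [notMem_support] at hxf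
    have hi' : ∀ a, τ a ∈ B.erase x ↔ a ∈ B.erase x := fun a => by
      rw [Finset.mem_erase, Finset.mem_erase, ← hi]
      conv_lhs => rw [← hxf, τ.injective.ne_iff]
    obtain ⟨a, ha⟩ := exists_fixed_point_of_prime (p := 2) (n := 1) (α := B.erase x)
      (by rw [Fintype.card_coe, Finset.card_erase_of_mem hx, h4]; norm_num)
      (σ := τ.subtypePerm hi') (by ext y; simp [pow_two, h.app])
    exact (Finset.mem_erase.1 a.2).1 (h.fix_eq (congrArg Subtype.val ha) hxf)
  · push Not at hc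
    obtain ⟨b, hb, hb'⟩ := hc
    have hbτ : τ b ≠ b := fun e => hb' (e.symm ▸ hb)
    have cov : ∀ v ∈ τ.support, v ∈ B ∨ τ v ∈ B := by
      intro v hv
      by_contra hn
      rw [not_or, notMem_support, notMem_support] at hn
      have h1 := h.tt_mem hbτ (mem_support.1 hv)
      have h2 := H.mul_mem (H.mul_mem (H.mul_mem hz h1) (H.inv_mem hz)) (H.inv_mem h1)
      rw [← conj_mul, tt, tt, ← swap_apply_apply, ← swap_apply_apply, hn.1, hn.2,
        notMem_support.1 hb', mul_inv_rev, mul_assoc, mul_inv_cancel_left, swap_inv,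
        swap_comm b] at h2
      refine n3 _ h2 (isThreeCycle_tc ?_ (mem_support.1 hb) hbτ)
      exact fun e => hb' (e ▸ apply_mem_support.2 hb)
    have hs : τ.support ⊆ B ∪ B.map τ.toEmbedding := fun v hv => by
      rcases cov v hv with e | e
      · exact Finset.mem_union_left _ e
      · exact Finset.mem_union_right _ (Finset.mem_map.2 ⟨_, e, h.app v⟩)
    have h1 := Finset.card_le_card hs
    have h2 := Finset.card_union_add_card_inter B (B.map τ.toEmbedding)
    have h3 := h.card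
    rw [Finset.card_map] at h2
    have h5 := Finset.eq_of_subset_of_card_le hs (by omega)
    have h6 : B ∩ B.map τ.toEmbedding = ∅ := Finset.card_eq_zero.1 (by omega)
    refine ⟨h5 ▸ Finset.subset_union_left, Or.inr ⟨by omega, fun a ha => ⟨fun e e' => ?_,
      fun e => (cov a ha).resolve_right e⟩⟩⟩
    exact Finset.notMem_empty a (h6 ▸ Finset.mem_inter.2 ⟨e, Finset.mem_map.2 ⟨_, e', h.app a⟩⟩)

theorem TauIn.dich' (h : TauIn H τ) (h' : TauIn H τ') {x y : α} (hx : τ' x ≠ x) (hy : τ' y ≠ y)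
    (h1 : y ≠ x) (h2 : y ≠ τ' x) : ({x, τ' x, y, τ' y} : Finset α) ⊆ τ.support ∧
    ((∀ a, a ∈ ({x, τ' x, y, τ' y} : Finset α) ↔ τ a ∈ ({x, τ' x, y, τ' y} : Finset α)) ∨
      (τ.support.card = 8 ∧ ∀ a ∈ τ.support, a ∈ ({x, τ' x, y, τ' y} : Finset α) ↔
        τ a ∉ ({x, τ' x, y, τ' y} : Finset α))) := by
  have e := h'.support_eq hx hy h1 h2
  have := h.dich n3 h8 (h'.tt_mem hx hy) (e ▸ h'.card_four hx hy h1 h2)
  rwa [e] at this

theorem TauIn.support_eq' (h : TauIn H τ) (h' : TauIn H τ') : τ'.support = τ.support := by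
  refine Finset.eq_of_subset_of_card_le (fun x hx => ?_) (by rw [h.card, h'.card])
  obtain ⟨y, hy, h1, h2⟩ := h'.exists_other (by omega) x
  exact (h.dich' n3 h8 h' (mem_support.1 hx) hy h1 h2).1 (by simp)

theorem TauIn.eq_of_ne (h : TauIn H τ) (h' : TauIn H τ') (hc : τ.support.card ≠ 8) : τ = τ' := by
  have e := h.support_eq' n3 h8 h'
  ext x
  by_cases hx : τ' x = x
  · rw [hx, ← notMem_support, ← e, notMem_support, hx]
  obtain ⟨y, z, y1, y2, y3, z1, z2, z3, k⟩ := h'.exists_two (by omega) x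
  have a := ((h.dich' n3 h8 h' hx y1 y2 y3).2.resolve_right fun e => hc e.1) x
  have b := ((h.dich' n3 h8 h' hx z1 z2 z3).2.resolve_right fun e => hc e.1) x
  exact (k _ (a.1 (by simp)) (b.1 (by simp))).resolve_left (mem_support.1 (e ▸ mem_support.2 hx))

theorem TauIn.commute (h : TauIn H τ) (h' : TauIn H τ') : τ * τ' = τ' * τ := by
  have e := h.support_eq' n3 h8 h'
  ext x
  rw [Perm.mul_apply, Perm.mul_apply]
  by_cases hx : τ' x = x
  · have : τ x = x := by rw [← notMem_support, ← e, notMem_support, hx]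
    rw [hx, this, hx]
  have m1 : x ∈ τ.support := e ▸ mem_support.2 hx
  have m2 : τ' x ∈ τ.support := e ▸ apply_mem_support.2 (mem_support.2 hx)
  have hu : τ' (τ x) ≠ τ x := mem_support.1 (e ▸ apply_mem_support.2 m1)
  have key : ∀ y, τ' y ≠ y → y ≠ τ x → y ≠ τ' (τ x) →
      τ (τ' x) ∈ ({τ x, τ' (τ x), y, τ' y} : Finset α) := by
    intro y y1 y2 y3
    have i : x ∈ ({τ x, τ' (τ x), y, τ' y} : Finset α) ↔
        τ' x ∈ ({τ x, τ' (τ x), y, τ' y} : Finset α) := by
      rw [← h'.support_eq hu y1 y2 y3]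
      exact (mem_of_commute (mul_mem (h'.toTau.tt_mem _) (h'.toTau.tt_mem _)).1.symm x).symm
    rcases (h.dich' n3 h8 h' hu y1 y2 y3).2 with k | ⟨-, k⟩
    · exact (k _).1 (i.1 ((k _).2 (by simp)))
    · by_contra hn
      exact (k _ m1).1 (i.2 ((k _ m2).2 hn)) (by simp)
  obtain ⟨y, z, y1, y2, y3, z1, z2, z3, k⟩ := h'.exists_two (by omega) (τ x)
  exact (k _ (key y y1 y2 y3) (key z z1 z2 z3)).resolve_left (τ.injective.ne hx)

end NoThree

theorem QS.exists_three (q : QS H E) (h : TauIn H τ) (h8 : 8 ≤ Fintype.card α) :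
    ∃ c ∈ H, c.IsThreeCycle := by
  by_contra n3
  push Not at n3
  apply q.not_cent h (by omega)
  by_cases hc : τ.support.card = 8
  · have hτ : τ ∈ H := by
      refine h.le ⟨self_mem_base τ, mem_alternatingGroup.2 ?_⟩
      rw [sign_of_pow_two_eq_one (by rw [pow_two, h.sq])]
      have h1 : Fintype.card (Function.fixedPoints τ) = τ.supportᶜ.card := by
        rw [Fintype.card_subtype]
        congr 1
        ext x
        simp [Function.IsFixedPt]
      have h2 := Finset.card_le_univ τ.support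
      rw [h1, Finset.card_compl, hc, show (Fintype.card α - (Fintype.card α - 8)) / 2 = 4 by omega]
      rfl
    let s : Set (Perm α) := {t | ∃ g ∈ H, t = g * τ * g⁻¹}
    have hs : ∀ a ∈ s, ∀ b ∈ s, a * b = b * a := by
      rintro _ ⟨a, ha, rfl⟩ _ ⟨b, hb, rfl⟩
      exact (h.conj ha).commute n3 h8 (h.conj hb)
    have hn : E ≤ normalizer (closure s : Set (Perm α)) := by
      refine fun e he => mem_normalizer_of_conjS_le ?_
      rw [conjS_def, MonoidHom.map_closure]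
      refine closure_mono ?_
      rintro _ ⟨_, ⟨a, ha, rfl⟩, rfl⟩
      exact ⟨e * a, H.mul_mem (q.le he) ha, by simp [mul_assoc]⟩
    rcases q.dich (K := closure s) ((closure_le _).2 (by
      rintro _ ⟨a, ha, rfl⟩
      exact H.mul_mem (H.mul_mem ha hτ) (H.inv_mem ha))) hn with e | e
    · have := isMulCommutative_closure hs
      exact absurd e (qs_sub_not_le_solvable q.qs
        (isSolvable_of_comm fun a b => mul_comm' a b))
    · intro a ha
      rw [e (subset_closure ⟨1, H.one_mem, by simp⟩) a ha, mul_inv_cancel_right]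
  · exact fun e he => (h.eq_of_ne n3 h8 (h.conj (q.le he)) hc).symm

theorem QS.two (q : QS H E) (h : TauIn H τ) (h8 : 8 ≤ Fintype.card α) :
    ∃ D, E = altOn D ∧ Fintype.card α ≤ D.card + 3 := by
  obtain ⟨c, hc, h3⟩ := q.exists_three h h8
  obtain ⟨D, e, h5, hD⟩ := q.main (good_support h3 hc)
  refine ⟨D, e, ?_⟩
  by_contra hn
  have hg : Good H D := ⟨by omega, e ▸ q.le⟩
  have inv : ∀ g ∈ H, ∀ x, g x ∈ D → x ∈ D := fun g hg' x hx => by
    simpa using hD _ (hg.conj (H.inv_mem hg')) (Finset.mem_map_of_mem _ hx)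
  have ex : ∀ s : Finset α, s.card ≤ 2 → ∃ x, τ x ≠ x ∧ x ∉ D ∧ x ∉ s := by
    intro s hs
    have := Finset.card_union_le D s
    obtain ⟨x, h1, h2⟩ := h.exists_moved (s := D ∪ s) (by omega)
    exact ⟨x, h1, by simpa using h2⟩
  obtain ⟨x, x1, x2, -⟩ := ex ∅ (by simp)
  obtain ⟨y, y1, y2, y3⟩ := ex {x, τ x} Finset.card_le_two
  simp only [Finset.mem_insert, Finset.mem_singleton, not_or] at y3
  obtain ⟨a, b⟩ := h.tt_tt_apply y3.1 y3.2
  have hz := h.tt_mem x1 y1
  refine q.not_tt h x1 y1 y3.1 y3.2 fun g hg => Commute.eq (Perm.Disjoint.commute ?_)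
  rw [disjoint_iff_disjoint_support, Finset.disjoint_left]
  intro u hu hu'
  have h1 : u ∈ D := (mem_altOn.1 (e ▸ hg : g ∈ altOn D)).1 hu
  have h2 := support_tt_tt τ x y hu'
  simp only [Finset.mem_insert, Finset.mem_singleton] at h2
  rcases h2 with rfl | rfl | rfl | rfl
  · exact x2 h1
  · exact x2 (inv _ hz _ (a ▸ h1))
  · exact y2 h1
  · exact y2 (inv _ hz _ (b ▸ h1))

end CfsgLib.AltSyl
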